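import Groth.Agent.EtCore45.ExtZeroPush
import Groth.Agent.EtCore45.EtalePull
import Groth.Agent.EtCore45.AlgClosedPts
import Groth.Agent.Unr55.Et.FinitePushExact
import Mathlib.AlgebraicGeometry.Morphisms.QuasiFinite

/-!
Trace for finite etale morphisms: extension by zero is the direct image, and the unit of
restriction followed by the trace is multiplication by the number of points in a geometric fibre.
-/

set_option autoImplicit false
set_option backward.isDefEq.respectTransparency.types false
universe u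

open CategoryTheory CategoryTheory.Limits AlgebraicGeometry Opposite
open Groth.Agent.Unr55.EtSh Groth.Agent.EtCore45 Groth.Agent.FlatMor66

namespace Groth.Agent.EtTrace93

theorem hom_eq_of_stalks_algClosed {X : Scheme.{u}} {F G : EtCoh.Ab X} (a b : F ⟶ G)
    (h : ∀ (K : Type u) [Field K] [IsAlgClosed K] (η : Spec (CommRingCat.of K) ⟶ X) (U : X.Etale)
      (t : Pt η U) (σ : EtCoh.sect F U),
      (EtCoh.stalk η).map a (germ η F t σ) = (EtCoh.stalk η).map b (germ η F t σ)) : a = b := by
  refine ObjectProperty.hom_ext _ (NatTrans.ext (funext fun U => ConcreteCategory.hom_ext _ _ fun σ => ?_))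
  refine sub_eq_zero.1 (sect_eq_zero_of_local G _ fun x => ?_)
  obtain ⟨K, _, _, η, t, ht⟩ := point_over_algClosed U.unop x
  have e := h K η U.unop t σ
  rw [stalk_map_germ, stalk_map_germ, ← sub_eq_zero, ← map_sub] at e
  obtain ⟨V, g, t', h1, h2⟩ := (germ_eq_zero_iff η G t _).1 e
  exact ⟨V, g, hom η t' default, (congrArg (fun q => hom η q default) h1).trans ht, h2⟩

variable {U X : Scheme.{u}} (f : U ⟶ X) [IsFinite f] [Etale f]

omit [Etale f] in
theorem finite_above {Ω : Type u} [Field Ω] [IsAlgClosed Ω] (ξ : Spec (CommRingCat.of Ω) ⟶ X) :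
    Finite (Above f ξ) :=
  finite_GPt f ξ (f.finite_preimage_singleton _)

theorem component_extToPush {Ω : Type u} [Field Ω] [IsAlgClosed Ω] {ξ : Spec (CommRingCat.of Ω) ⟶ X}
    [DecidableEq (Above f ξ)] (F : EtCoh.Ab U) (v w : Above f ξ)
    (x : ((EtCoh.stalk v.1).obj F : AddCommGrpCat.{u + 1})) :
    pushMapAt f w.2 F ((EtCoh.stalk ξ).map ((extToPush f).app F) (extZeroStalkMap f v.2 F x)) =
      if h : v = w then (eqToHom (congrArg (fun z : Above f ξ => (EtCoh.stalk z.1).obj F) h)) x else 0 := by
  obtain ⟨V, s, σ, rfl⟩ := exists_germ_eq v.1 F x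
  rw [stalk_extToPush_germ, component_delta]

/-- Every element of the stalk of the direct image is the image of the sum of its components. -/
theorem extToPush_sum {Ω : Type u} [Field Ω] [IsAlgClosed Ω] {ξ : Spec (CommRingCat.of Ω) ⟶ X}
    [Fintype (Above f ξ)] (F : EtCoh.Ab U)
    (a : ((EtCoh.stalk ξ).obj ((EtCoh.push f).obj F) : AddCommGrpCat.{u + 1})) :
    (EtCoh.stalk ξ).map ((extToPush f).app F)
      (∑ v : Above f ξ, extZeroStalkMap f v.2 F (pushMapAt f v.2 F a)) = a := by
  classical
  refine sub_eq_zero.1 (pushMapAt_injective f F _ fun w hw => ?_)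
  rw [map_sub, sub_eq_zero, map_sum, map_sum, Finset.sum_eq_single ⟨w, hw⟩]
  · refine (component_extToPush f F ⟨w, hw⟩ ⟨w, hw⟩ _).trans ?_
    rw [dif_pos rfl, eqToHom_refl, ConcreteCategory.id_apply]
  · intro v _ hv
    exact (component_extToPush f F v ⟨w, hw⟩ _).trans (dif_neg hv)
  · exact fun h => absurd (Finset.mem_univ _) h

instance isIso_extToPush (F : EtCoh.Ab U) : IsIso ((extToPush f).app F) :=
  isIso_of_stalks_algClosed _ fun K _ _ ξ => by
    refine ⟨extToPush_stalk_injective f ξ F, fun a => ?_⟩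
    have := finite_above f ξ
    have := Fintype.ofFinite (Above f ξ)
    exact ⟨_, extToPush_sum f F a⟩

/-- The trace of a finite etale morphism. -/
noncomputable def traceR (F : EtCoh.Ab X) : (EtCoh.push f).obj ((EtShriek.restrAlong f).obj F) ⟶ F :=
  inv ((extToPush f).app ((EtShriek.restrAlong f).obj F)) ≫ (EtShriek.extZeroAdj f).counit.app F

omit [IsFinite f] in
theorem compBcAdj_counit_left (V : X.Etale) :
    ((compBcAdj f).counit.app V).left = pullback.fst V.hom f := by
  simp [compBcAdj, MorphismProperty.Over.mapPullbackAdj]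

omit [IsFinite f] in
theorem counit_extZeroStalkMap {Ω : Type u} [Field Ω] [IsSepClosed Ω]
    {ξ : Spec (CommRingCat.of Ω) ⟶ X} {v : Spec (CommRingCat.of Ω) ⟶ U} (hv : v ≫ f = ξ)
    (G : EtCoh.Ab X) {V : U.Etale} (s : Pt v V)
    (σ : EtCoh.sect G ((EtShriek.compEtale f).obj V)) :
    (EtCoh.stalk ξ).map ((EtShriek.extZeroAdj f).counit.app G)
      (extZeroStalkMap f hv ((EtShriek.restrAlong f).obj G)
        (germ v ((EtShriek.restrAlong f).obj G) s σ)) = germ ξ G (ptComp f hv s) σ := by
  rw [extZeroStalkMap_germ]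
  refine (stalk_map_germ ξ _ (ptComp f hv s) _).trans (congrArg (germ ξ G _) ?_)
  exact ConcreteCategory.congr_hom
    (congrArg (fun k => k.hom.app (op V)) ((EtShriek.extZeroAdj f).right_triangle_components G)) σ

theorem restr_unit_traceR {Ω : Type u} [Field Ω] [IsAlgClosed Ω] (ξ : Spec (CommRingCat.of Ω) ⟶ X)
    [Fintype (Above f ξ)] (F : EtCoh.Ab X) {V : X.Etale} (s : Pt ξ V) (σ : EtCoh.sect F V) :
    (EtCoh.stalk ξ).map ((restrPushAdj f).unit.app F ≫ traceR f F) (germ ξ F s σ) =
      Fintype.card (Above f ξ) • germ ξ F s σ := by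
  let G := (EtShriek.restrAlong f).obj F
  let φ := (extToPush f).app G
  let a := (EtCoh.stalk ξ).map ((restrPushAdj f).unit.app F) (germ ξ F s σ)
  have ha : a = germ ξ ((EtCoh.push f).obj G) s (F.obj.map ((compBcAdj f).counit.app V).op σ) :=
    stalk_map_germ ξ ((restrPushAdj f).unit.app F) s σ
  rw [traceR, Functor.map_comp, Functor.map_comp, ConcreteCategory.comp_apply, ConcreteCategory.comp_apply]
  have hb : (EtCoh.stalk ξ).map (inv φ) a = ∑ v : Above f ξ, extZeroStalkMap f v.2 G (pushMapAt f v.2 G a) := by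
    refine (congrArg ((EtCoh.stalk ξ).map (inv φ)) (extToPush_sum f G a).symm).trans ?_
    rw [← ConcreteCategory.comp_apply, ← Functor.map_comp, IsIso.hom_inv_id, CategoryTheory.Functor.map_id,
      ConcreteCategory.id_apply]
  refine (congrArg ((EtCoh.stalk ξ).map ((EtShriek.extZeroAdj f).counit.app F)) hb).trans ?_
  rw [map_sum, ← Finset.card_univ, ← Finset.sum_const]
  refine Finset.sum_congr rfl fun v _ => ?_
  rw [ha, pushMapAt_germ]
  refine (counit_extZeroStalkMap f v.2 F _ _).trans ?_
  rw [germ_map]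
  refine congrArg (fun t => germ ξ F t σ) (Over.OverMorphism.ext ?_)
  exact (congrArg (pullback.lift _ _ _ ≫ ·) (compBcAdj_counit_left f V)).trans (pullback.lift_fst _ _ _)

/-- Points above an algebraically closed geometric point are the points of the geometric fibre. -/
theorem card_above {Ω : Type u} [Field Ω] [IsAlgClosed Ω] (ξ : Spec (CommRingCat.of Ω) ⟶ X) :
    Nat.card (Above f ξ) = Nat.card ↥(pullback f ξ) := by
  let p := pullback.snd f ξ
  have : Etale p := MorphismProperty.pullback_snd _ _ ‹Etale f›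
  have : IsFinite p := MorphismProperty.pullback_snd _ _ ‹IsFinite f›
  let sct : Above f ξ → (Spec (CommRingCat.of Ω) ⟶ pullback f ξ) := fun v =>
    pullback.lift v.1 (𝟙 _) (v.2.trans (Category.id_comp ξ).symm)
  have hs : ∀ v, sct v ≫ p = 𝟙 _ := fun v => pullback.lift_snd _ _ _
  refine Nat.card_eq_of_bijective (fun v => sct v default) ⟨fun v w hvw => ?_, fun z => ?_⟩
  · have h1 : Mono (sct v) := mono_of_mono_fac (hs v)
    have : Etale (sct v ≫ p) := by rw [hs v]; infer_instance
    have : Etale (sct v) := Etale.of_comp _ p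
    have : IsOpenImmersion (sct v) := IsOpenImmersion.of_flat_of_mono _
    have hr : Set.range (sct w) ⊆ Set.range (sct v) := by
      rintro _ ⟨a, rfl⟩
      exact ⟨default, hvw.trans (congrArg (sct w) (Subsingleton.elim _ _))⟩
    have hl : IsOpenImmersion.lift (sct v) (sct w) hr = 𝟙 _ := by
      have := congrArg (· ≫ p) (IsOpenImmersion.lift_fac (sct v) (sct w) hr)
      simpa only [Category.assoc, hs, Category.comp_id] using this
    have e : sct v = sct w := by
      rw [← IsOpenImmersion.lift_fac (sct v) (sct w) hr, hl, Category.id_comp]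
    have := congrArg (· ≫ pullback.fst f ξ) e
    exact Subtype.ext (((pullback.lift_fst _ _ _).symm.trans this).trans (pullback.lift_fst _ _ _))
  · obtain ⟨⟨c, hc⟩, hcz⟩ := FlatMor66.exists_lift p (𝟙 _) z (Subsingleton.elim _ _)
    refine ⟨⟨c ≫ pullback.fst f ξ, ?_⟩, ?_⟩
    · rw [Category.assoc, pullback.condition, ← Category.assoc, hc, Category.id_comp]
    · have e : sct ⟨c ≫ pullback.fst f ξ, by
          rw [Category.assoc, pullback.condition, ← Category.assoc, hc, Category.id_comp]⟩ = c :=
        pullback.hom_ext (pullback.lift_fst _ _ _) ((pullback.lift_snd _ _ _).trans hc.symm)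
      exact (congrArg (fun q => q default) e).trans ((congrArg c (Subsingleton.elim _ _)).trans hcz)

/-- For a finite etale morphism of constant degree, the unit followed by the trace is multiplication by
the degree. -/
theorem exists_trace (d : ℕ)
    (hd : ∀ (Ω : Type u) [Field Ω] [IsAlgClosed Ω] (ξ : Spec (CommRingCat.of Ω) ⟶ X),
      Nat.card (Above f ξ) = d) (F : EtCoh.Ab X) :
    ∃ τ : (EtCoh.push f).obj ((EtCoh.pull f).obj F) ⟶ F,
      (EtCoh.pullPushAdj f).unit.app F ≫ τ = d • 𝟙 F := by
  refine ⟨(EtCoh.push f).map ((pullRestrIso f).hom.app F) ≫ traceR f F, ?_⟩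
  rw [← Category.assoc, show (EtCoh.pullPushAdj f).unit.app F ≫ (EtCoh.push f).map ((pullRestrIso f).hom.app F) =
    (restrPushAdj f).unit.app F from Adjunction.unit_leftAdjointUniq_hom_app _ _ F]
  refine hom_eq_of_stalks_algClosed _ _ fun K _ _ η V t σ => ?_
  have := finite_above f η
  have := Fintype.ofFinite (Above f η)
  refine (restr_unit_traceR f η F t σ).trans ?_
  have hid : (EtCoh.stalk η).map (d • 𝟙 F) = d • 𝟙 ((EtCoh.stalk η).obj F) :=
    (Functor.map_nsmul (EtCoh.stalk η)).trans (congrArg (d • ·) ((EtCoh.stalk η).map_id F))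
  refine Eq.trans ?_ (ConcreteCategory.congr_hom hid _).symm
  rw [← Nat.card_eq_fintype_card, hd K η]
  rfl

end Groth.Agent.EtTrace93
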